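import Mathlib
import Cfsg.Agent.S0042
import Cfsg.Agent.Lib.Helper75.LW.Defs

/-!
# LW package [KER]: the Frobenius kernel of a pointwise stabiliser
-/

set_option autoImplicit false

namespace Cfsg.Agent.Lib.Helper69.LW

open Cfsg.Agent.Lib.Helper75.LW
open Pointwise

universe u

theorem pkgKer : PkgKer.{u} := by
  intro α _ _ G Λ₀ x hx htr hfree hnt
  obtain ⟨g₀, hg₀G, hg₀1, hg₀fix, hg₀x⟩ := hnt
  let L : Subgroup (Equiv.Perm α) := PS G Λ₀
  let H : Subgroup L := (MulAction.stabilizer (Equiv.Perm α) x).subgroupOf L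
  have hHmem : ∀ l : L, l ∈ H ↔ (l : Equiv.Perm α) x = x := by
    intro l
    simp [H, Subgroup.mem_subgroupOf, MulAction.mem_stabilizer_iff]
  have hLfix : ∀ l : L, ∀ p ∈ Λ₀, (l : Equiv.Perm α) p = p := fun l => l.2.2
  have hLG : ∀ l : L, (l : Equiv.Perm α) ∈ G := fun l => l.2.1
  have hLout : ∀ l : L, ∀ y, y ∉ Λ₀ → (l : Equiv.Perm α) y ∉ Λ₀ := by
    intro l y hy hly
    have h1 := hLfix l _ hly
    have h2 : (l : Equiv.Perm α) y = y := (l : Equiv.Perm α).injective h1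
    rw [h2] at hly
    exact hy hly
  have hLtr : ∀ y, y ∉ Λ₀ → ∃ l : L, (l : Equiv.Perm α) x = y := by
    intro y hy
    obtain ⟨g, hgG, hgfix, hgx⟩ := htr y hy
    exact ⟨⟨g, hgG, hgfix⟩, hgx⟩
  have hconj : ∀ (l ν : L), ν ∈ MulAut.conj l • H ↔
      (ν : Equiv.Perm α) ((l : Equiv.Perm α) x) = (l : Equiv.Perm α) x := by
    intro l ν
    rw [Subgroup.mem_pointwise_smul_iff_inv_smul_mem, hHmem, MulAut.smul_def,
      MulAut.conj_inv_apply]
    simp only [Subgroup.coe_mul, Subgroup.coe_inv, Equiv.Perm.mul_apply]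
    rw [Equiv.Perm.inv_eq_iff_eq]
  have hL1 : ∀ l : L, (∀ y z : α, y ∉ Λ₀ → z ∉ Λ₀ → y ≠ z → (l : Equiv.Perm α) y = y →
      (l : Equiv.Perm α) z = z → l = 1) := by
    intro l y z hy hz hyz hly hlz
    apply Subtype.ext
    exact hfree l (hLG l) (hLfix l) y z hy hz hyz hly hlz
  have hFrob : Cfsg.IsFrobeniusComplement H := by
    refine ⟨?_, ?_, ?_⟩
    · intro hbot
      have hmem : (⟨g₀, hg₀G, hg₀fix⟩ : L) ∈ H := (hHmem _).2 hg₀x
      rw [hbot, Subgroup.mem_bot] at hmem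
      exact hg₀1 (congrArg Subtype.val hmem)
    · intro htop
      have hmove : ∃ y, g₀ y ≠ y := by
        by_contra hcon
        exact hg₀1 (Equiv.ext fun y => not_not.1 fun hy => hcon ⟨y, hy⟩)
      obtain ⟨y, hy⟩ := hmove
      have hyΛ : y ∉ Λ₀ := fun h => hy (hg₀fix y h)
      obtain ⟨l, hl⟩ := hLtr y hyΛ
      have hlH : l ∈ H := by rw [htop]; trivial
      rw [hHmem, hl] at hlH
      rw [hlH] at hy
      exact hy hg₀x
    · intro l hl
      rw [eq_bot_iff]
      intro ν hν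
      rw [Subgroup.mem_inf, hHmem, hconj] at hν
      rw [Subgroup.mem_bot]
      have hlx : (l : Equiv.Perm α) x ≠ x := fun h => hl ((hHmem l).2 h)
      exact hL1 ν x _ hx (hLout l x hx) (Ne.symm hlx) hν.1 hν.2
  obtain ⟨N, hNk, hNn, hNc⟩ := Cfsg.Agent.S0035.result H hFrob
  have hNn' : N.Normal := hNn
  have hNnil : Group.IsNilpotent N := Cfsg.Agent.S0042.kernel_nilpotent H hFrob N hNk
  -- characterisation of the kernel
  have hchar : ∀ ν : L, ν ∈ N ↔ (ν = 1 ∨ ∀ y, y ∉ Λ₀ → (ν : Equiv.Perm α) y ≠ y) := by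
    intro ν
    have h0 : ν ∈ N ↔ ν ∈ Cfsg.frobeniusKernel H := by rw [← hNk]; rfl
    rw [h0]
    constructor
    · rintro (h | h)
      · exact Or.inl h
      · right
        intro y hy hνy
        obtain ⟨m, hm⟩ := hLtr y hy
        apply h m
        rw [hconj, hm]
        exact hνy
    · rintro (h | h)
      · exact Or.inl h
      · right
        intro m hm
        rw [hconj] at hm
        exact h _ (hLout m x hx) hm
  refine ⟨N.map L.subtype, ?_, ?_, ?_, ?_, ?_, ?_⟩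
  · rintro f ⟨ν, -, rfl⟩
    exact hLG ν
  · rintro f ⟨ν, -, rfl⟩ p hp
    exact hLfix ν p hp
  · intro y hy
    obtain ⟨l, hl⟩ := hLtr y hy
    obtain ⟨⟨⟨ν, hν⟩, ⟨h, hh⟩⟩, hνh⟩ := hNc.2 l
    refine ⟨(ν : Equiv.Perm α), ⟨ν, hν, rfl⟩, ?_⟩
    have hh' := (hHmem h).1 hh
    have e : (l : Equiv.Perm α) = (ν : Equiv.Perm α) * (h : Equiv.Perm α) := by
      rw [← Subgroup.coe_mul]
      exact congrArg Subtype.val hνh.symm
    rw [← hl, e, Equiv.Perm.mul_apply, hh']
  · rintro f ⟨ν, hν, rfl⟩ hfx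
    rcases (hchar ν).1 hν with h | h
    · rw [h]; rfl
    · exact absurd hfx (h x hx)
  · rintro g hgG hgΛ f ⟨ν, hν, rfl⟩
    have himg : Λ₀.image g = Λ₀ := by
      apply Finset.eq_of_subset_of_card_le
      · intro p hp
        rw [Finset.mem_image] at hp
        obtain ⟨q, hq, rfl⟩ := hp
        exact hgΛ q hq
      · rw [Finset.card_image_of_injective _ g.injective]
    have hfix : ∀ p ∈ Λ₀, (g * (ν : Equiv.Perm α) * g⁻¹) p = p := by
      intro p hp
      rw [← himg, Finset.mem_image] at hp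
      obtain ⟨q, hq, rfl⟩ := hp
      simp only [Equiv.Perm.mul_apply]
      rw [show g⁻¹ (g q) = q from by simp, hLfix ν q hq]
    have hmemG : g * (ν : Equiv.Perm α) * g⁻¹ ∈ G :=
      G.mul_mem (G.mul_mem hgG (hLG ν)) (G.inv_mem hgG)
    refine ⟨⟨g * (ν : Equiv.Perm α) * g⁻¹, hmemG, hfix⟩, ?_, rfl⟩
    rw [SetLike.mem_coe, hchar]
    rcases (hchar ν).1 hν with h | h
    · left
      apply Subtype.ext
      simp [h]
    · right
      intro y hy hνy
      simp only [Equiv.Perm.mul_apply] at hνy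
      have h1 : (ν : Equiv.Perm α) (g⁻¹ y) = g⁻¹ y := by
        rw [Equiv.Perm.eq_inv_iff_eq]
        exact hνy
      refine h (g⁻¹ y) ?_ h1
      intro hgy
      have := hgΛ _ hgy
      simp at this
      exact hy this
  · exact Group.nilpotent_of_mulEquiv (N.equivMapOfInjective L.subtype L.subtype_injective)
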