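import Mathlib
import Cfsg.Agent.Lib.Helper75.LW.Defs

/-!
# LW package [R2]: in the rigid situation no involution fixes `k - 2` points
-/

set_option autoImplicit false

namespace Cfsg.Agent.Lib.Helper69.LW

open Cfsg.Agent.Lib.Helper75.LW

universe u

theorem pkgR2 (hExt : PkgExt.{u}) : PkgR2.{u} := by
  intro α _ _ G k hR hTriv s hs u huG hu2 hufix
  by_contra hu1
  apply hR.ntr
  have hk3 := hR.k3
  -- (a) every `(k-2)`-set is fixed pointwise by an involution
  have ha : ∀ s' : Finset α, s'.card = k - 2 →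
      ∃ w ∈ G, w * w = 1 ∧ w ≠ 1 ∧ ∀ a ∈ s', w a = a := by
    intro s' hs'
    have e : s' ≃ s := Finset.equivOfCardEq (hs'.trans hs.symm)
    let φ : α → α := fun a => if h : a ∈ s' then (e ⟨a, h⟩ : α) else a
    have hφ : Set.InjOn φ (s' : Set α) := by
      intro a ha b hb hab
      have ha' : a ∈ s' := ha
      have hb' : b ∈ s' := hb
      simp only [φ, dif_pos ha', dif_pos hb'] at hab
      have := e.injective (Subtype.ext hab)
      exact congrArg Subtype.val this
    obtain ⟨g, hgG, hg⟩ := hExt G (k - 2) s' φ hs' hR.tr hφ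
    refine ⟨g⁻¹ * u * g, G.mul_mem (G.mul_mem (G.inv_mem hgG) huG) hgG, ?_, ?_, ?_⟩
    · calc g⁻¹ * u * g * (g⁻¹ * u * g) = g⁻¹ * (u * u) * g := by group
        _ = 1 := by rw [hu2]; group
    · intro h
      apply hu1
      have h' : u = g * (g⁻¹ * u * g) * g⁻¹ := by group
      rw [h', h]; group
    · intro a ha
      have h1 : g a ∈ s := by
        rw [hg a ha]
        simp only [φ, dif_pos ha]
        exact (e ⟨a, ha⟩).2
      simp only [Equiv.Perm.mul_apply]
      rw [hufix _ h1]
      simp
  -- (b) involutions fixing a `(k-3)`-set pointwise and swapping two prescribed outside points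
  have hb : ∀ (Λ₀ : Finset α) (x v : α), Λ₀.card = k - 3 → x ∉ Λ₀ → v ∉ Λ₀ → x ≠ v →
      ∃ w ∈ G, w * w = 1 ∧ (∀ p ∈ Λ₀, w p = p) ∧ w x = v := by
    intro Λ₀ x v hΛ hx hv hxv
    have hch : ∀ y : α, ∃ w : Equiv.Perm α, y ∉ Λ₀ → y ≠ x →
        (w ∈ G ∧ w * w = 1 ∧ w ≠ 1 ∧ (∀ p ∈ Λ₀, w p = p) ∧ w y = y) := by
      intro y
      by_cases hy : y ∉ Λ₀ ∧ y ≠ x
      · obtain ⟨w, hwG, hw2, hw1, hwfix⟩ := ha (insert y Λ₀)
          (by rw [Finset.card_insert_of_notMem hy.1, hΛ]; omega)
        exact ⟨w, fun _ _ => ⟨hwG, hw2, hw1, fun p hp => hwfix p (Finset.mem_insert_of_mem hp),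
          hwfix y (Finset.mem_insert_self _ _)⟩⟩
      · exact ⟨1, fun h1 h2 => absurd ⟨h1, h2⟩ hy⟩
    choose W hW using hch
    have hWx : ∀ y, y ∉ Λ₀ → y ≠ x → W y x ∉ Λ₀ ∧ W y x ≠ x := by
      intro y hy hyx
      obtain ⟨hwG, hw2, hw1, hwfix, hwy⟩ := hW y hy hyx
      constructor
      · intro h
        have h1 := hwfix _ h
        have h2 : W y x = x := (W y).injective h1
        rw [h2] at h
        exact hx h
      · intro h
        apply hw1
        apply hTriv (insert x (insert y Λ₀)) _ (W y) hwG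
        · intro a ha
          rw [Finset.mem_insert, Finset.mem_insert] at ha
          rcases ha with rfl | rfl | ha
          · exact h
          · exact hwy
          · exact hwfix a ha
        · rw [Finset.card_insert_of_notMem, Finset.card_insert_of_notMem hy, hΛ]
          · omega
          · rw [Finset.mem_insert]
            rintro (h | h)
            · exact hyx h.symm
            · exact hx h
    let C := {y : α // y ∉ Λ₀ ∧ y ≠ x}
    let φ : C → C := fun y => ⟨W y.1 x, hWx y.1 y.2.1 y.2.2⟩
    have hφinj : Function.Injective φ := by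
      intro y y' hyy'
      by_contra hne
      have hne' : y.1 ≠ y'.1 := fun h => hne (Subtype.ext h)
      have hval : W y.1 x = W y'.1 x := congrArg Subtype.val hyy'
      obtain ⟨hwG, hw2, hw1, hwfix, hwy⟩ := hW y.1 y.2.1 y.2.2
      obtain ⟨hwG', hw2', hw1', hwfix', hwy'⟩ := hW y'.1 y'.2.1 y'.2.2
      obtain ⟨hvΛ, hvx⟩ := hWx y.1 y.2.1 y.2.2
      generalize W y.1 = w at *
      generalize W y'.1 = w' at *
      have hww : w (w x) = x := by rw [← Equiv.Perm.mul_apply, hw2]; rfl
      have hww' : w' (w' x) = x := by rw [← Equiv.Perm.mul_apply, hw2']; rfl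
      have hc1 : w * w' = 1 := by
        apply hTriv (insert (w x) (insert x Λ₀)) _ (w * w') (G.mul_mem hwG hwG')
        · intro a ha
          rw [Finset.mem_insert, Finset.mem_insert] at ha
          rw [Equiv.Perm.mul_apply]
          rcases ha with rfl | rfl | ha
          · rw [hval, hww', hval]
          · rw [← hval, hww]
          · rw [hwfix' a ha, hwfix a ha]
        · rw [Finset.card_insert_of_notMem, Finset.card_insert_of_notMem hx, hΛ]
          · omega
          · rw [Finset.mem_insert]
            rintro (h | h)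
            · exact hvx h
            · exact hvΛ h
      have heq : w = w' := by
        have h1 : w = w'⁻¹ := eq_inv_of_mul_eq_one_left hc1
        have h2 : w'⁻¹ = w' := inv_eq_of_mul_eq_one_left hw2'
        rw [h1, h2]
      apply hw1
      apply hTriv (insert y'.1 (insert y.1 Λ₀)) _ w hwG
      · intro a ha
        rw [Finset.mem_insert, Finset.mem_insert] at ha
        rcases ha with rfl | rfl | ha
        · rw [heq]; exact hwy'
        · exact hwy
        · exact hwfix a ha
      · rw [Finset.card_insert_of_notMem, Finset.card_insert_of_notMem y.2.1, hΛ]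
        · omega
        · rw [Finset.mem_insert]
          rintro (h | h)
          · exact hne' h.symm
          · exact y'.2.1 h
    have hφsurj : Function.Surjective φ := Finite.surjective_of_injective hφinj
    obtain ⟨y, hy⟩ := hφsurj ⟨v, hv, hxv.symm⟩
    obtain ⟨hwG, hw2, hw1, hwfix, hwy⟩ := hW y.1 y.2.1 y.2.2
    exact ⟨W y.1, hwG, hw2, hwfix, congrArg Subtype.val hy⟩
  -- (c) every permutation of a `(k-1)`-set is induced by an element of `G`
  have hc : ∀ Γ : Finset α, Γ.card = k - 1 → ∀ τ : Equiv.Perm Γ,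
      ∃ h ∈ G, ∀ a : Γ, h (a : α) = (τ a : α) := by
    intro Γ hΓ τ
    induction τ using Equiv.Perm.swap_induction_on with
    | one => exact ⟨1, G.one_mem, fun a => rfl⟩
    | swap_mul f x y hxy ih =>
      obtain ⟨h, hhG, hh⟩ := ih
      have hxy' : (x : α) ≠ y := fun h => hxy (Subtype.ext h)
      obtain ⟨w, hwG, hw2, hwfix, hwx⟩ := hb ((Γ.erase x).erase y) x y (by
          rw [Finset.card_erase_of_mem, Finset.card_erase_of_mem x.2, hΓ]
          · omega
          · exact Finset.mem_erase.2 ⟨hxy'.symm, y.2⟩) (by simp) (by simp) hxy'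
      have hwy : w y = x := by
        rw [← hwx, ← Equiv.Perm.mul_apply, hw2]; rfl
      refine ⟨w * h, G.mul_mem hwG hhG, fun a => ?_⟩
      rw [Equiv.Perm.mul_apply, hh a, Equiv.Perm.mul_apply]
      by_cases h1 : f a = x
      · rw [h1, Equiv.swap_apply_left, hwx]
      · by_cases h2 : f a = y
        · rw [h2, Equiv.swap_apply_right, hwy]
        · rw [Equiv.swap_apply_of_ne_of_ne h1 h2]
          apply hwfix
          rw [Finset.mem_erase, Finset.mem_erase]
          exact ⟨fun h => h2 (Subtype.ext h), fun h => h1 (Subtype.ext h), (f a).2⟩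
  -- (d) `(k-1)`-transitivity
  intro X Y
  let s1 : Finset α := Finset.univ.map X
  let s2 : Finset α := Finset.univ.map Y
  have hs1 : s1.card = k - 1 := by simp [s1]
  have hs2 : s2.card = k - 1 := by simp [s2]
  obtain ⟨g, hgG, hg⟩ := hR.h1 s1 s2 hs1 hs2
  have hgX : ∀ i, g (X i) ∈ s2 := fun i => (hg (X i)).1 (by simp [s1])
  have hY : ∀ i, Y i ∈ s2 := fun i => by simp [s2]
  let f1 : Fin (k - 1) → s2 := fun i => ⟨g (X i), hgX i⟩
  let f2 : Fin (k - 1) → s2 := fun i => ⟨Y i, hY i⟩
  have hf1 : Function.Injective f1 := by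
    intro i j hij
    have := congrArg Subtype.val hij
    exact X.injective (g.injective this)
  have hf2 : Function.Injective f2 := by
    intro i j hij
    exact Y.injective (congrArg Subtype.val hij)
  have hcard : Fintype.card (Fin (k - 1)) = Fintype.card s2 := by
    rw [Fintype.card_fin, Fintype.card_coe, hs2]
  have hb1 : Function.Bijective f1 :=
    (Fintype.bijective_iff_injective_and_card f1).2 ⟨hf1, hcard⟩
  have hb2 : Function.Bijective f2 :=
    (Fintype.bijective_iff_injective_and_card f2).2 ⟨hf2, hcard⟩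
  let e1 := Equiv.ofBijective f1 hb1
  let e2 := Equiv.ofBijective f2 hb2
  obtain ⟨h, hhG, hh⟩ := hc s2 hs2 (e1.symm.trans e2)
  refine ⟨h * g, G.mul_mem hhG hgG, fun i => ?_⟩
  rw [Equiv.Perm.mul_apply]
  have h3 := hh (f1 i)
  have e : (e1.symm.trans e2) (f1 i) = f2 i := by
    have : e1.symm (f1 i) = i := by
      rw [Equiv.symm_apply_eq]; rfl
    rw [Equiv.trans_apply, this]; rfl
  rw [e] at h3
  exact h3
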